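import Mathlib
import Groth.Agent.H8Lim.StalkLimit
import Groth.Agent.H8Lim.InvertibleStage

/-!
# Invertible modules over the local scheme extend to a neighbourhood
-/

set_option autoImplicit false
set_option backward.isDefEq.respectTransparency.types false

universe u

open CategoryTheory Limits AlgebraicGeometry TopologicalSpace

namespace Groth.Agent.PicNhd8

theorem exists_extension {X S : Scheme.{u}} (f : X ⟶ S) [QuasiCompact f] [QuasiSeparated f] (s : S)
    (L : (pullback f (S.fromSpecStalk s)).Modules) (hL : PicF.IsInvertible L) :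
    ∃ (V : S.Opens) (_ : s ∈ V) (L' : (↑(f ⁻¹ᵁ V) : Scheme.{u}).Modules), PicF.IsInvertible L' ∧
      ∀ (ι : pullback f (S.fromSpecStalk s) ⟶ ↑(f ⁻¹ᵁ V)),
        ι ≫ (f ⁻¹ᵁ V).ι = pullback.fst f (S.fromSpecStalk s) →
        Nonempty ((Scheme.Modules.pullback ι).obj L' ≅ L) := by
  open H8Lim.StalkLimit in
  obtain ⟨A, hA, hsA, -⟩ := exists_isAffineOpen_mem_and_subset (X := S) (x := s) (U := ⊤) trivial
  let i₀ : AffNhd s := ⟨A, hA, hsA⟩
  let D := diagram s
  let c := cone s
  let b : D.obj i₀ ⟶ S := incMap s i₀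
  let X₀ := pullback f b
  let f₀ : X₀ ⟶ D.obj i₀ := pullback.snd f b
  have hcb : c.π.app i₀ ≫ b = S.fromSpecStalk s := cone_incMap s i₀
  let qX : pullback f (S.fromSpecStalk s) ⟶ X₀ :=
    pullback.lift (pullback.fst f (S.fromSpecStalk s)) (pullback.snd f (S.fromSpecStalk s) ≫ c.π.app i₀)
      (by exact pullback.condition.trans ((congrArg (pullback.snd f (S.fromSpecStalk s) ≫ ·) hcb.symm).trans (Category.assoc _ _ _).symm))
  have hX : IsPullback qX (pullback.snd f (S.fromSpecStalk s)) f₀ (c.π.app i₀) :=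
    IsPullback.of_right (by rw [show qX ≫ pullback.fst f b = _ from pullback.lift_fst _ _ _]
                            erw [hcb]
                            exact IsPullback.of_hasPullback _ _)
      (pullback.lift_snd _ _ _) (IsPullback.of_hasPullback f b)
  haveI : ∀ i, CompactSpace (D.obj i) := fun i => inferInstance
  haveI : ∀ i, QuasiSeparatedSpace (D.obj i) := fun i => inferInstance
  haveI : QuasiCompact (f₀ ≫ 𝟙 (D.obj i₀)) := by rw [Category.comp_id]; infer_instance
  haveI : QuasiSeparated (f₀ ≫ 𝟙 (D.obj i₀)) := by rw [Category.comp_id]; infer_instance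
  haveI : IsIso (𝟙 c.pt) := IsIso.id _
  haveI : IsIso (𝟙 (D.obj i₀)) := IsIso.id _
  have hY : IsPullback (c.π.app i₀) (𝟙 c.pt) (𝟙 (D.obj i₀)) (c.π.app i₀) :=
    IsPullback.of_vert_isIso ⟨(Category.comp_id _).trans (Category.id_comp _).symm⟩
  obtain ⟨j, φ, Xj, Yj, fj, gj, pY, pX, qYj, qXj, Lj, hYj, hXj, -, -, -, e2, hLj, ⟨e⟩⟩ :=
    H8Lim.exists_stage_invertible (D := D) (c := c) (isLimitCone s) f₀ (𝟙 (D.obj i₀)) hY hX L hL
  let σ : Xj ⟶ X := pX ≫ pullback.fst f b
  have hσ : IsPullback σ (fj ≫ gj) f (incMap s j) := by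
    have h1 := (hXj.paste_vert hYj)
    rw [Category.comp_id] at h1
    have h2 := h1.paste_horiz (IsPullback.of_hasPullback f b)
    rwa [show D.map φ ≫ b = incMap s j from map_incMap s φ] at h2
  haveI : IsOpenImmersion σ := MorphismProperty.of_isPullback hσ.flip inferInstance
  have hrange : Set.range σ = Set.range ((f ⁻¹ᵁ j.1).ι) := by
    rw [Scheme.Opens.range_ι, ← hσ.isoPullback_hom_fst, Scheme.Hom.comp_base, TopCat.coe_comp, Set.range_comp,
      Set.range_eq_univ.2 hσ.isoPullback.hom.surjective, Set.image_univ, Scheme.Pullback.range_fst]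
    show f ⁻¹' Set.range (incMap s j) = _
    rw [show Set.range (incMap s j) = (j.1 : Set S) from j.2.1.range_fromSpec]
    rfl
  let E := IsOpenImmersion.isoOfRangeEq σ (f ⁻¹ᵁ j.1).ι hrange
  refine ⟨j.1, j.2.2, (Scheme.Modules.pullback E.inv).obj Lj, PicLoc.isInvertible_pullback E.inv hLj,
    fun ι hι => ⟨?_⟩⟩
  have hfac : ι ≫ E.inv = qXj := by
    rw [← cancel_mono σ, Category.assoc, IsOpenImmersion.isoOfRangeEq_inv_fac, hι]
    rw [show qXj ≫ σ = (qXj ≫ pX) ≫ pullback.fst f b from (Category.assoc _ _ _).symm, e2]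
    exact (pullback.lift_fst _ _ _).symm
  exact (Scheme.Modules.pullbackComp ι E.inv).app Lj ≪≫ (Scheme.Modules.pullbackCongr hfac).app Lj ≪≫ e

end Groth.Agent.PicNhd8
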